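import Groth.Agent.EtTr32.SplitEtale
import Groth.Agent.Hens22.FactorLift
import Mathlib.RingTheory.LocalRing.ResidueField.Basic
import Mathlib.FieldTheory.IsAlgClosed.AlgebraicClosure
import Mathlib.RingTheory.Henselian

/-!
Over a product of henselian local rings, standard etale pairs with points over all closed points of
the factors are refined, on finitely many factors-subproducts, by splitting algebras of separable
monic polynomials.
-/

set_option autoImplicit false
universe u

open Polynomial IsLocalRing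

namespace Groth.Agent.EtTr32

/-- Polynomials of bounded degree over a product are families of such polynomials. -/
theorem exists_poly {V : Type u} {O : V → Type u} [∀ v, CommRing (O v)] (N : ℕ) (p : ∀ v, (O v)[X])
    (hp : ∀ v, (p v).natDegree ≤ N) :
    ∃ P : (Π v, O v)[X], P.natDegree ≤ N ∧ ∀ v, P.map (Pi.evalRingHom O v) = p v := by
  refine ⟨∑ i ∈ Finset.range (N + 1), C (fun v => (p v).coeff i) * X ^ i, ?_, fun v => ?_⟩
  · exact natDegree_sum_le_of_forall_le _ _ fun i hi =>
      (natDegree_C_mul_X_pow_le _ _).trans (by simpa [Nat.lt_succ_iff] using hi)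
  · conv_rhs => rw [(p v).as_sum_range' (N + 1) (Nat.lt_succ_of_le (hp v))]
    rw [Polynomial.map_sum]
    simp [C_mul_X_pow_eq_monomial]

theorem poly_ext {V : Type u} {O : V → Type u} [∀ v, CommRing (O v)] {P Q : (Π v, O v)[X]}
    (h : ∀ v, P.map (Pi.evalRingHom O v) = Q.map (Pi.evalRingHom O v)) : P = Q :=
  Polynomial.ext fun i => funext fun v => by simpa using congrArg (fun q => q.coeff i) (h v)

theorem isCoprime_of_components {V : Type u} {O : V → Type u} [∀ v, CommRing (O v)]
    {p q : (Π v, O v)[X]} (hp : p.Monic)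
    (h : ∀ v, IsCoprime (p.map (Pi.evalRingHom O v)) (q.map (Pi.evalRingHom O v))) : IsCoprime p q := by
  choose a b hab using h
  obtain ⟨B, -, hB⟩ := exists_poly p.natDegree (fun v => b v %ₘ p.map (Pi.evalRingHom O v))
    (fun v => by
      rcases eq_or_ne (p.map (Pi.evalRingHom O v)) 1 with h1 | h1
      · simp [h1]
      · exact (natDegree_modByMonic_lt _ (hp.map _) h1).le.trans natDegree_map_le)
  have hd : (B * q - 1) %ₘ p = 0 := poly_ext fun v => by
    rw [map_modByMonic _ hp, Polynomial.map_zero, Polynomial.map_sub, Polynomial.map_mul, hB v,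
      Polynomial.map_one, modByMonic_eq_zero_iff_dvd (hp.map _)]
    have e1 := modByMonic_add_div (b v) (p.map (Pi.evalRingHom O v))
    refine ⟨-a v - q.map (Pi.evalRingHom O v) * (b v /ₘ p.map (Pi.evalRingHom O v)), ?_⟩
    linear_combination q.map (Pi.evalRingHom O v) * e1 + hab v
  obtain ⟨c, hc⟩ := (modByMonic_eq_zero_iff_dvd hp).1 hd
  exact ⟨-c, B, by linear_combination hc⟩

/-- The monic polynomial of degree `e` is a `splitPoly`. -/
theorem splitPoly_of_monic {A : Type u} [CommRing A] {p : A[X]} {e : ℕ} (hp : p.Monic)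
    (he : p.natDegree = e ∨ Subsingleton A) :
    Split94.splitPoly e (fun i : Fin e => (-1) ^ ((i : ℕ) + 1) * p.coeff (e - 1 - (i : ℕ))) = p := by
  rcases subsingleton_or_nontrivial A with hA | hA
  · exact Subsingleton.elim _ _
  have he' : p.natDegree = e := he.resolve_right (not_subsingleton A)
  refine Polynomial.ext fun k => ?_
  rcases lt_trichotomy k e with hk | hk | hk
  · have hk' : e - 1 - ((⟨e - 1 - k, by omega⟩ : Fin e) : ℕ) = k := by simp; omega
    rw [← hk', Split94.splitPoly_coeff, hk', ← mul_assoc, ← mul_pow]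
    simp
  · subst hk
    have h1 := (Split94.splitPoly_monic k (fun i : Fin k => (-1) ^ ((i : ℕ) + 1) * p.coeff (k - 1 - (i : ℕ)))).leadingCoeff
    rw [leadingCoeff, Split94.splitPoly_natDegree] at h1
    rw [h1, ← he', hp.coeff_natDegree]
  · rw [coeff_eq_zero_of_natDegree_lt (by rw [Split94.splitPoly_natDegree]; exact hk),
      coeff_eq_zero_of_natDegree_lt (by omega)]

/-- Over a henselian local ring, a simple residual root with `g ≠ 0` gives a separable monic factor. -/
theorem exists_local_factor {R : Type u} [CommRing R] [HenselianLocalRing R] (f g : R[X]) (hf : f.Monic)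
    (hc : ∃ p₁ p₂ n, derivative f * p₁ + f * p₂ = g ^ n)
    (hr : ∃ r : AlgebraicClosure (ResidueField R),
      aeval r (f.map (residue R)) = 0 ∧ aeval r (g.map (residue R)) ≠ 0) :
    ∃ P h : R[X], P.Monic ∧ P.natDegree ≤ f.natDegree ∧ h.natDegree ≤ f.natDegree ∧
      P.Separable ∧ f = P * h ∧ IsCoprime P g ∧ 0 < P.natDegree := by
  obtain ⟨r, hrf, hrg⟩ := hr
  have hint : IsIntegral (ResidueField R) r := Algebra.IsIntegral.isIntegral r
  set m := minpoly (ResidueField R) r with hm
  have hmi : Irreducible m := minpoly.irreducible hint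
  obtain ⟨h0, hh0⟩ := minpoly.dvd _ r hrf
  rw [← hm] at hh0
  have hh0m : h0.Monic := (minpoly.monic hint).of_mul_monic_left (hh0 ▸ hf.map _)
  have hder : aeval r (derivative (f.map (residue R))) ≠ 0 := by
    obtain ⟨p₁, p₂, n, e⟩ := hc
    intro h
    have := congrArg (fun q : R[X] => aeval r (q.map (residue R))) e
    simp only [Polynomial.map_add, Polynomial.map_mul, Polynomial.map_pow, map_add, map_mul, map_pow,
      ← derivative_map, h, hrf, zero_mul, add_zero] at this
    exact hrg (eq_zero_of_pow_eq_zero this.symm)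
  rw [hh0, derivative_mul, map_add, map_mul, map_mul, hm, minpoly.aeval, zero_mul, add_zero,
    mul_ne_zero_iff] at hder
  rw [← hm] at hder
  have hcop : IsCoprime m h0 := hmi.coprime_iff_not_dvd.2 fun ⟨c, hcd⟩ =>
    hder.2 (by rw [hcd, map_mul, hm, minpoly.aeval, zero_mul])
  obtain ⟨g₀, hg₀, -, hg₀m⟩ := lifts_and_natDegree_eq_and_monic
    ((mem_lifts m).2 (Polynomial.map_surjective (residue R) residue_surjective m)) (minpoly.monic hint)
  obtain ⟨h₀, hh₀, -, hh₀m⟩ := lifts_and_natDegree_eq_and_monic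
    ((mem_lifts h0).2 (Polynomial.map_surjective (residue R) residue_surjective h0)) hh0m
  obtain ⟨P, h, hP, hh, hfPh, hPm, -, -⟩ := Hens22.exists_factor (maximalIdeal R) hf hg₀m hh₀m
    (show f.map (residue R) = (g₀ * h₀).map (residue R) by rw [Polynomial.map_mul, hg₀, hh₀, hh0])
    (show IsCoprime (g₀.map (residue R)) (h₀.map (residue R)) by rw [hg₀, hh₀]; exact hcop)
  have hPm' : P.map (residue R) = m := (show P.map (residue R) = g₀.map (residue R) from hPm).trans hg₀
  have hd : P.natDegree + h.natDegree = f.natDegree := by rw [hfPh, hP.natDegree_mul hh]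
  have hker : RingHom.ker (residue R) ≤ Ideal.jacobson ⊥ := by
    rw [IsLocalRing.ker_residue]; exact maximalIdeal_le_jacobson _
  refine ⟨P, h, hP, by omega, by omega, ?_, hfPh, ?_, ?_⟩
  · refine Hens22.isCoprime_of_map (residue R) residue_surjective hker hP ?_
    rw [← derivative_map, hPm']
    exact hmi.coprime_iff_not_dvd.2 fun ⟨c, hcd⟩ =>
      hder.1 (by rw [hcd, map_mul, hm, minpoly.aeval, zero_mul])
  · refine Hens22.isCoprime_of_map (residue R) residue_surjective hker hP ?_
    rw [hPm']
    exact hmi.coprime_iff_not_dvd.2 fun ⟨c, hcd⟩ =>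
      hrg (by rw [hcd, map_mul, hm, minpoly.aeval, zero_mul])
  · rw [← hP.natDegree_map (residue R), hPm']
    exact minpoly.natDegree_pos hint

/-- The subproduct over a subset of indices, as a quotient of the product. -/
noncomputable abbrev subProd {V : Type u} (O : V → Type u) [∀ v, CommRing (O v)] {ι : Type}
    (c : V → ι) (j : ι) : (Π v, O v) →+* (Π v : {v // c v = j}, O v.1) :=
  RingHom.pi fun v => Pi.evalRingHom O v.1

theorem exists_cover {V : Type u} (O : V → Type u) [∀ v, CommRing (O v)] [∀ v, HenselianLocalRing (O v)]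
    {n : ℕ} (E : Fin n → StandardEtalePair (Π v, O v))
    (hE : ∀ v, ∃ i, ∃ r : AlgebraicClosure (ResidueField (O v)),
      aeval r (((E i).f.map (Pi.evalRingHom O v)).map (residue (O v))) = 0 ∧
      aeval r (((E i).g.map (Pi.evalRingHom O v)).map (residue (O v))) ≠ 0) :
    ∃ (ι : Type) (_ : Finite ι) (c : V → ι), ∀ j : ι,
      ∃ (e : ℕ) (a : Fin e → Π v : {v // c v = j}, O v.1), (Split94.splitPoly e a).Separable ∧
        ∃ (i : Fin n) (φ : (E i).Ring →+* Split94.Split e a),
          φ.comp (algebraMap _ _) = (algebraMap _ _).comp (subProd O c j) := by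
  classical
  choose i hi using hE
  choose P h hP hPd hhd hPs hfac hPg hPpos using fun v => exists_local_factor
    ((E (i v)).f.map (Pi.evalRingHom O v)) ((E (i v)).g.map (Pi.evalRingHom O v)) ((E (i v)).monic_f.map _)
    (by
      obtain ⟨p₁, p₂, k, e⟩ := (E (i v)).cond
      exact ⟨p₁.map (Pi.evalRingHom O v), p₂.map (Pi.evalRingHom O v), k, by
        rw [derivative_map, ← Polynomial.map_mul, ← Polynomial.map_mul, ← Polynomial.map_add,
          ← Polynomial.map_pow, e]⟩)
    (hi v)
  let c : V → (Σ k : Fin n, Fin ((E k).f.natDegree + 1)) := fun v =>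
    ⟨i v, ⟨(P v).natDegree, Nat.lt_succ_of_le ((hPd v).trans natDegree_map_le)⟩⟩
  refine ⟨_, inferInstance, c, fun j => ?_⟩
  obtain ⟨k, e, he⟩ := j
  have hiv : ∀ v : {v // c v = ⟨k, ⟨e, he⟩⟩}, i v.1 = k := fun v => congrArg Sigma.fst v.2
  have hev : ∀ v : {v // c v = ⟨k, ⟨e, he⟩⟩}, (P v.1).natDegree = e := fun v =>
    congrArg (fun x : (Σ k : Fin n, Fin ((E k).f.natDegree + 1)) => (x.2 : ℕ)) v.2
  set π := subProd O c ⟨k, ⟨e, he⟩⟩ with hπ
  have hmapπ : ∀ (q : (Π v, O v)[X]) (v : {v // c v = ⟨k, ⟨e, he⟩⟩}),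
      (q.map π).map (Pi.evalRingHom _ v) = q.map (Pi.evalRingHom O v.1) := fun q v => by
    rw [Polynomial.map_map]; rfl
  obtain ⟨PJ, hPJd, hPJ⟩ := exists_poly e (fun v : {v // c v = ⟨k, ⟨e, he⟩⟩} => P v.1)
    (fun v => (hev v).le)
  have hPJm : PJ.Monic := monic_of_natDegree_le_of_coeff_eq_one e hPJd (funext fun v => by
    have : (P v.1).coeff e = 1 := by simpa only [hev v] using (hP v.1).coeff_natDegree
    simpa [← hPJ v] using this)
  have hPJe : PJ.natDegree = e ∨ Subsingleton (Π v : {v // c v = ⟨k, ⟨e, he⟩⟩}, O v.1) := by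
    rcases subsingleton_or_nontrivial (Π v : {v // c v = ⟨k, ⟨e, he⟩⟩}, O v.1) with hs | hs
    · exact Or.inr hs
    · left
      obtain ⟨v⟩ : Nonempty {v // c v = ⟨k, ⟨e, he⟩⟩} := by
        by_contra hne
        rw [not_nonempty_iff] at hne
        exact not_subsingleton (Π v : {v // c v = ⟨k, ⟨e, he⟩⟩}, O v.1) inferInstance
      refine le_antisymm hPJd ?_
      refine (hev v).symm.le.trans ?_
      rw [← hPJ v]
      exact natDegree_map_le
  obtain ⟨hJ, -, hhJ⟩ := exists_poly ((E k).f.natDegree) (fun v : {v // c v = ⟨k, ⟨e, he⟩⟩} => h v.1)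
    (fun v => ((hhd v.1).trans natDegree_map_le).trans (le_of_eq (by rw [hiv v])))
  have hfJ : (E k).f.map π = PJ * hJ := poly_ext fun v => by
    rw [hmapπ, Polynomial.map_mul, hPJ, hhJ, ← hfac v.1, hiv v]
  have hgJ : IsCoprime PJ ((E k).g.map π) := isCoprime_of_components hPJm fun v => by
    rw [hmapπ, hPJ v]
    have := hPg v.1
    rwa [hiv v] at this
  let a : Fin e → Π v : {v // c v = ⟨k, ⟨e, he⟩⟩}, O v.1 :=
    fun t => (-1) ^ ((t : ℕ) + 1) * PJ.coeff (e - 1 - (t : ℕ))
  have ha : Split94.splitPoly e a = PJ := splitPoly_of_monic hPJm hPJe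
  refine ⟨e, a, ?_, k, ?_⟩
  · rw [ha]
    exact isCoprime_of_components hPJm fun v => by rw [← derivative_map, hPJ v]; exact hPs v.1
  · letI : Algebra (Π v, O v) (Split94.Split e a) := ((algebraMap _ (Split94.Split e a)).comp π).toAlgebra
    -- the degree is positive as soon as the class is nonempty, so a root exists
    rcases Nat.eq_zero_or_pos e with he0 | he0
    · have : Subsingleton (Π v : {v // c v = ⟨k, ⟨e, he⟩⟩}, O v.1) :=
        ⟨fun _ _ => funext fun v => absurd (hPpos v.1) (by rw [hev v, he0]; omega)⟩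
      have : Subsingleton (Split94.Split e a) :=
        subsingleton_of_zero_eq_one (by
          rw [← map_zero (algebraMap (Π v : {v // c v = ⟨k, ⟨e, he⟩⟩}, O v.1) (Split94.Split e a)),
            Subsingleton.elim (0 : Π v : {v // c v = ⟨k, ⟨e, he⟩⟩}, O v.1) 1, map_one])
      have hmap : (E k).HasMap (0 : Split94.Split e a) :=
        ⟨Subsingleton.elim _ _, isUnit_of_subsingleton _⟩
      exact ⟨((E k).lift 0 hmap).toRingHom, ((E k).lift 0 hmap).comp_algebraMap⟩
    · let x : Split94.Split e a := rt a ⟨0, he0⟩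
      have hx : aeval x PJ = 0 := by
        rw [← ha, aeval_def, ← eval_map, ← Split94.prod_root, eval_prod]
        exact Finset.prod_eq_zero (Finset.mem_univ (⟨0, he0⟩ : Fin e)) (by simp [x])
      have hal : ∀ q : (Π v, O v)[X], aeval x q = aeval x (q.map π) := fun q => by
        rw [aeval_def, aeval_def, eval₂_map]; rfl
      have hmap : (E k).HasMap x := by
        refine ⟨by rw [hal, hfJ, map_mul, hx, zero_mul], ?_⟩
        obtain ⟨p, q, hpq⟩ := hgJ
        have := congrArg (aeval x) hpq
        rw [map_add, map_mul, map_mul, hx, mul_zero, zero_add, map_one] at this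
        rw [hal]
        exact IsUnit.of_mul_eq_one_right _ this
      exact ⟨((E k).lift x hmap).toRingHom, ((E k).lift x hmap).comp_algebraMap⟩

end Groth.Agent.EtTr32
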