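import Groth.Prelude.Def_AdFn
import Mathlib.RingTheory.Henselian

/-! The completed valuation rings `O_v` are complete, hence henselian. -/

set_option autoImplicit false
universe u

open WithZero Filter Topology

namespace Groth.Agent.EtTr32

variable {k K : Type u} [Field k] [Field K] [Algebra k K] (v : FunFld.Place k K)

theorem exists_uniformizer : ∃ π : AdFn.Ov v, Valued.v (π : AdFn.Kv v) = exp (-1) := by
  obtain ⟨x, hx⟩ := v.2.2 (exp (-1))
  have h : Valued.v (AdFn.toKv v x) = exp (-1 : ℤ) := by rw [AdFn.valued_toKv, hx]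
  exact ⟨⟨AdFn.toKv v x, (AdFn.mem_Ov v _).2 (by rw [h, ← exp_zero, exp_le_exp]; norm_num)⟩, h⟩

theorem mem_span_pow_iff {π : AdFn.Ov v} (hπ : Valued.v (π : AdFn.Kv v) = exp (-1)) (n : ℕ)
    (x : AdFn.Ov v) :
    x ∈ (Ideal.span {π} : Ideal (AdFn.Ov v)) ^ n ↔ Valued.v (x : AdFn.Kv v) ≤ exp (-(n : ℤ)) := by
  have hπn : Valued.v ((π : AdFn.Kv v) ^ n) = exp (-(n : ℤ)) := by
    rw [map_pow, hπ, ← exp_nsmul, nsmul_eq_mul, mul_neg, mul_one]
  have hne : (π : AdFn.Kv v) ^ n ≠ 0 := fun h => by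
    rw [h, map_zero] at hπn; exact exp_ne_zero hπn.symm
  rw [Ideal.span_singleton_pow, Ideal.mem_span_singleton]
  constructor
  · rintro ⟨y, rfl⟩
    rw [MulMemClass.coe_mul, SubmonoidClass.coe_pow, map_mul, hπn]
    exact mul_le_of_le_one_right' y.2
  · intro h
    have hy : (x : AdFn.Kv v) / (π : AdFn.Kv v) ^ n ∈ AdFn.Ov v := by
      rw [AdFn.mem_Ov, map_div₀, hπn, div_le_one₀ (zero_lt_iff.2 exp_ne_zero)]
      exact h
    exact ⟨⟨_, hy⟩, Subtype.ext (by simp [mul_div_cancel₀ _ hne])⟩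

theorem isAdicComplete_span {π : AdFn.Ov v} (hπ : Valued.v (π : AdFn.Kv v) = exp (-1)) :
    IsAdicComplete (Ideal.span {π}) (AdFn.Ov v) := by
  have hpow := mem_span_pow_iff v hπ
  have hmem : ∀ (n : ℕ) (x y : AdFn.Ov v),
      x ≡ y [SMOD ((Ideal.span {π}) ^ n • ⊤ : Submodule (AdFn.Ov v) (AdFn.Ov v))] ↔
        Valued.v ((x : AdFn.Kv v) - y) ≤ exp (-(n : ℤ)) := fun n x y => by
    rw [SModEq.sub_mem, smul_eq_mul, Ideal.mul_top, hpow]
    simp
  have hsmall : ∀ γ : (WithZero (Multiplicative ℤ))ˣ, ∃ n : ℕ, exp (-(n : ℤ)) < (γ : WithZero (Multiplicative ℤ)) :=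
    fun γ => ⟨(1 - log (γ : WithZero (Multiplicative ℤ))).toNat, by
      conv_rhs => rw [← exp_log (Units.ne_zero γ)]
      rw [exp_lt_exp]
      omega⟩
  refine { haus' := fun x hx => ?_, prec' := fun f hf => ?_ }
  · by_contra h0
    have h0' : Valued.v (x : AdFn.Kv v) ≠ 0 :=
      (Valuation.ne_zero_iff _).2 fun h => h0 (Subtype.ext h)
    obtain ⟨n, hn⟩ := hsmall (Units.mk0 _ h0')
    have := (hmem n x 0).1 (hx n)
    simp only [ZeroMemClass.coe_zero, sub_zero] at this
    exact not_lt.2 this hn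
  · have hcau : CauchySeq (fun n => (f n : AdFn.Kv v)) := by
      rw [CauchySeq, (Valued.cauchy_iff (R := AdFn.Kv v))]
      refine ⟨inferInstance, fun γ => ?_⟩
      obtain ⟨n, hn⟩ := hsmall (Units.mk0 (MonoidWithZeroHom.ValueGroup₀.embedding γ.1)
        ((map_ne_zero _).2 γ.ne_zero))
      refine ⟨(fun m => (f m : AdFn.Kv v)) '' Set.Ici n, Filter.image_mem_map (Filter.Ici_mem_atTop n), ?_⟩
      rintro _ ⟨a, ha, rfl⟩ _ ⟨b, hb, rfl⟩
      rw [Valuation.restrict_lt_iff_lt_embedding]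
      refine lt_of_le_of_lt ?_ hn
      have h1 := (hmem n (f n) (f b)).1 (hf hb)
      have h2 := (hmem n (f n) (f a)).1 (hf ha)
      rw [show (f b : AdFn.Kv v) - f a = ((f n : AdFn.Kv v) - f a) - ((f n : AdFn.Kv v) - f b) by ring]
      exact (Valuation.map_sub _ _ _).trans (max_le h2 h1)
    obtain ⟨L, hL⟩ := cauchySeq_tendsto_of_complete hcau
    have hLn : ∀ n : ℕ, Valued.v (L - (f n : AdFn.Kv v)) ≤ exp (-(n : ℤ)) := by
      intro n
      by_contra hlt
      rw [not_le] at hlt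
      have hne : Valued.v (L - (f n : AdFn.Kv v)) ≠ 0 := (lt_of_le_of_lt zero_le hlt).ne'
      have h0 : Tendsto (fun m => (f m : AdFn.Kv v) - f n) atTop (𝓝 (L - f n)) :=
        hL.sub_const _
      have hev := h0.eventually (Valued.locally_const hne)
      obtain ⟨m, hm1, hm2⟩ := (hev.and (eventually_ge_atTop n)).exists
      have h3 := (hmem n (f n) (f m)).1 (hf hm2)
      rw [Valuation.map_sub_swap] at h3
      rw [show Valued.v ((f m : AdFn.Kv v) - f n) = Valued.v (L - (f n : AdFn.Kv v)) from hm1] at h3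
      exact not_lt.2 h3 hlt
    have hLO : L ∈ AdFn.Ov v := by
      have h1 : L - (f 0 : AdFn.Kv v) ∈ AdFn.Ov v := (AdFn.mem_Ov v _).2 (by simpa using hLn 0)
      simpa using (AdFn.Ov v).add_mem _ _ h1 (f 0).2
    refine ⟨⟨L, hLO⟩, fun n => (hmem n _ _).2 ?_⟩
    rw [Valuation.map_sub_swap]
    exact hLn n

theorem henselianLocalRing_Ov : HenselianLocalRing (AdFn.Ov v) := by
  obtain ⟨π, hπ⟩ := exists_uniformizer v
  have := isAdicComplete_span v hπ
  have heq : Ideal.span {π} = IsLocalRing.maximalIdeal (AdFn.Ov v) := by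
    refine le_antisymm ?_ fun x hx => ?_
    · rw [Ideal.span_le, Set.singleton_subset_iff, SetLike.mem_coe,
        IsLocalRing.mem_maximalIdeal, mem_nonunits_iff]
      rintro ⟨u, rfl⟩
      have h1 : Valued.v ((u : AdFn.Ov v) : AdFn.Kv v) = 1 := by
        refine le_antisymm (u : AdFn.Ov v).2 ?_
        have h2 := congrArg (fun t : AdFn.Ov v => Valued.v (t : AdFn.Kv v)) u.mul_inv
        simp only [MulMemClass.coe_mul, map_mul, OneMemClass.coe_one, map_one] at h2
        calc (1 : WithZero (Multiplicative ℤ)) = _ := h2.symm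
          _ ≤ _ := mul_le_of_le_one_right' (↑u⁻¹ : AdFn.Ov v).2
      rw [hπ, ← exp_zero, exp_inj] at h1
      omega
    · have hlt : Valued.v (x : AdFn.Kv v) < 1 := by
        rcases lt_or_eq_of_le ((AdFn.mem_Ov v _).1 x.2) with h | h
        · exact h
        · refine absurd ?_ ((IsLocalRing.mem_maximalIdeal x).1 hx)
          have hne : (x : AdFn.Kv v) ≠ 0 := fun h0 => by simp [h0] at h
          have hinv : (x : AdFn.Kv v)⁻¹ ∈ AdFn.Ov v := by rw [AdFn.mem_Ov, map_inv₀, h, inv_one]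
          exact IsUnit.of_mul_eq_one (b := (⟨_, hinv⟩ : AdFn.Ov v)) (Subtype.ext (mul_inv_cancel₀ hne))
      rw [← pow_one (Ideal.span {π}), mem_span_pow_iff v hπ]
      rcases eq_or_ne (Valued.v (x : AdFn.Kv v)) 0 with h0 | h0
      · rw [h0]; exact zero_le
      · rw [← exp_log h0, exp_le_exp]
        rw [← exp_log h0] at hlt
        have := exp_lt_exp.1 (hlt.trans_eq exp_zero.symm)
        omega
  rw [heq] at this
  have := IsAdicComplete.henselianRing (AdFn.Ov v) (IsLocalRing.maximalIdeal (AdFn.Ov v))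
  exact
    { is_henselian := fun f hf a h1 h2 => HenselianRing.is_henselian f hf a h1
        (h2.map (Ideal.Quotient.mk _)) }

end Groth.Agent.EtTr32
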