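import Mathlib.CategoryTheory.Sites.SheafCohomology.Basic
import Mathlib.Algebra.Homology.DerivedCategory.Ext.ExactSequences
import Mathlib.Algebra.Homology.DerivedCategory.Ext.EnoughInjectives
import Mathlib.CategoryTheory.Sites.EpiMono

/-!
Torsion of sheaf cohomology from local transfers: if every covering of a terminal object is refined
by finitely many pairwise disjoint objects carrying finite transitive families of endomorphisms,
then sections lift along locally surjective maps up to a positive integer, and positive degree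
cohomology is torsion.
-/

universe w' w v u

open CategoryTheory CategoryTheory.Limits CategoryTheory.Abelian Opposite

namespace Groth.Agent.EtTr32

variable {C : Type u} [Category.{v} C] {J : GrothendieckTopology C}

theorem isSheaf_types (F : Sheaf J AddCommGrpCat.{w}) :
    Presheaf.IsSheaf J (F.obj ⋙ forget AddCommGrpCat.{w}) :=
  Presheaf.isSheaf_comp_of_isSheaf J F.obj (forget AddCommGrpCat.{w}) F.property

/-- Sections agreeing on a covering sieve agree. -/
theorem sect_ext (F : Sheaf J AddCommGrpCat.{w}) {Z : C} {S : Sieve Z} (hS : S ∈ J Z)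
    {x y : F.obj.obj (op Z)} (h : ∀ ⦃V : C⦄ (f : V ⟶ Z), S f → F.obj.map f.op x = F.obj.map f.op y) :
    x = y :=
  (((isSheaf_iff_isSheaf_of_type _ _).1 (isSheaf_types F)) S hS).isSeparatedFor.ext h

/-- A structure witnessing transfers on a covering of a terminal object. -/
structure TransferData (J : GrothendieckTopology C) {T : C} (hT : IsTerminal T) (R : Sieve T) where
  ι : Type w
  finι : Finite ι
  W : ι → C
  Γ : ι → Type w
  finΓ : ∀ i, Finite (Γ i)
  nonemptyΓ : ∀ i, Nonempty (Γ i)
  e : ∀ i, Γ i → (W i ⟶ W i)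
  perm : ∀ i (γ : Γ i), ∃ π : Γ i ≃ Γ i, ∀ δ, e i γ ≫ e i δ = e i (π δ)
  mem : ∀ i, R (hT.from (W i))
  cover : Sieve.ofArrows W (fun i => hT.from (W i)) ∈ J T
  disjoint : ∀ i j, i ≠ j → ∀ (Z : C), (Z ⟶ W i) → (Z ⟶ W j) → (⊥ : Sieve Z) ∈ J Z
  loc : ∀ i (Z : C) (a b : Z ⟶ W i), ∃ S ∈ J Z, ∀ (V : C) (h : V ⟶ Z), S h →
    ∃ γ : Γ i, h ≫ b = h ≫ a ≫ e i γ

/-- A section which lifts on the covering lifts after multiplication by a positive integer. -/
theorem TransferData.exists_nsmul_lift {T : C} {hT : IsTerminal T} {R : Sieve T}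
    (D : TransferData.{w} J hT R) {F G : Sheaf J AddCommGrpCat.{w}} (g : F ⟶ G)
    (s : G.obj.obj (op T))
    (hs : ∀ ⦃V : C⦄ (f : V ⟶ T), R f →
      ∃ t : F.obj.obj (op V), g.hom.app (op V) t = G.obj.map f.op s) :
    ∃ N : ℕ, 0 < N ∧ ∃ t : F.obj.obj (op T), g.hom.app (op T) t = N • s := by
  classical
  obtain ⟨ι, finι, W, Γ, finΓ, nonemptyΓ, e, perm, mem, cover, disjoint, loc⟩ := D
  have := fun i => Fintype.ofFinite (Γ i)
  have := Fintype.ofFinite ι
  choose t ht using fun i => hs _ (mem i)
  let c : ι → ℕ := fun i => Fintype.card (Γ i)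
  let m : ι → ℕ := fun i => ∏ j ∈ Finset.univ.erase i, c j
  let u : ∀ i, F.obj.obj (op (W i)) := fun i => m i • ∑ δ, F.obj.map (e i δ).op (t i)
  -- the family is compatible
  have hu : Presieve.Arrows.Compatible (F.obj ⋙ forget AddCommGrpCat.{w})
      (fun i => hT.from (W i)) u := by
    intro i j Z a b _
    show F.obj.map a.op (u i) = F.obj.map b.op (u j)
    by_cases hij : i = j
    · subst hij
      obtain ⟨S, hS, hloc⟩ := loc i Z a b
      refine sect_ext F hS fun V h hh => ?_
      obtain ⟨γ, hγ⟩ := hloc V h hh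
      obtain ⟨π, hπ⟩ := perm i γ
      have key : F.obj.map (e i γ).op (∑ δ, F.obj.map (e i δ).op (t i)) =
          ∑ δ, F.obj.map (e i δ).op (t i) := by
        rw [map_sum]
        refine Fintype.sum_equiv π _ _ fun δ => ?_
        rw [← hπ δ]
        simp
      have h1 : F.obj.map h.op (F.obj.map b.op (u i)) = F.obj.map (h ≫ b).op (u i) := by simp
      have h2 : F.obj.map (h ≫ a ≫ e i γ).op (u i) =
          F.obj.map h.op (F.obj.map a.op (F.obj.map (e i γ).op (u i))) := by simp
      rw [h1, hγ, h2]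
      congr 2
      simp only [u, map_nsmul, key]
    · exact sect_ext F (disjoint i j hij Z a b) fun V h hh => absurd hh (by simp)
  have hsh := ((isSheaf_iff_isSheaf_of_type _ _).1 (isSheaf_types F)) _ cover
  rw [Sieve.ofArrows, ← Presieve.isSheafFor_iff_generate] at hsh
  obtain ⟨t₀, ht₀, -⟩ := (Presieve.isSheafFor_arrows_iff _ _).1 hsh u hu
  refine ⟨∏ i, c i, Finset.prod_pos fun i _ => Fintype.card_pos, t₀, ?_⟩
  refine sect_ext G cover fun V f hf => ?_
  obtain ⟨i, k, rfl⟩ := (Sieve.mem_ofArrows_iff _ _ _).1 hf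
  have hti : F.obj.map (hT.from (W i)).op t₀ = u i := ht₀ i
  have key : ∀ x : F.obj.obj (op T), G.obj.map (k ≫ hT.from (W i)).op (g.hom.app (op T) x) =
      G.obj.map k.op (g.hom.app (op (W i)) (F.obj.map (hT.from (W i)).op x)) := fun x => by
    rw [NatTrans.naturality_apply, op_comp, G.obj.map_comp]
    rfl
  rw [key, hti]
  have e1 : g.hom.app (op (W i)) (u i) = (∏ i, c i) • G.obj.map (hT.from (W i)).op s := by
    simp only [u, map_nsmul, map_sum]
    have : ∀ δ, g.hom.app (op (W i)) (F.obj.map (e i δ).op (t i)) =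
        G.obj.map (hT.from (W i)).op s := fun δ => by
      rw [NatTrans.naturality_apply, ht i, ← ConcreteCategory.comp_apply, ← G.obj.map_comp, ← op_comp,
        hT.hom_ext (e i δ ≫ hT.from (W i)) (hT.from (W i))]
    rw [Finset.sum_congr rfl fun δ _ => this δ, Finset.sum_const, smul_smul, Finset.card_univ]
    congr 1
    rw [mul_comm]
    exact Finset.mul_prod_erase Finset.univ c (Finset.mem_univ i)
  rw [e1, map_nsmul, map_nsmul, op_comp, G.obj.map_comp]
  rfl

/-- If sections lift along epimorphisms up to positive integers, positive degree classes are torsion. -/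
theorem exists_nsmul_ext_eq_zero {A : Type*} [Category A] [Abelian A] [EnoughInjectives A]
    [HasExt.{w'} A] (c : A)
    (h : ∀ (I Q : A) (g : I ⟶ Q) [Epi g] (s : c ⟶ Q), ∃ N : ℕ, 0 < N ∧ ∃ φ : c ⟶ I, φ ≫ g = N • s)
    (n : ℕ) : ∀ (F : A) (ξ : Ext.{w'} c F (n + 1)), ∃ N : ℕ, 0 < N ∧ N • ξ = 0 := by
  induction n with
  | zero =>
    intro F ξ
    let S : ShortComplex A := ShortComplex.mk (Injective.ι F) (cokernel.π (Injective.ι F))
      (cokernel.condition _)
    have hS : S.ShortExact :=
      { exact := ShortComplex.exact_of_g_is_cokernel _ (cokernelIsCokernel (Injective.ι F))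
        mono_f := inferInstanceAs (Mono (Injective.ι F))
        epi_g := inferInstanceAs (Epi (cokernel.π (Injective.ι F))) }
    have : Subsingleton (Ext.{w'} c S.X₂ (0 + 1)) :=
      Ext.subsingleton_of_injective c (Injective.under F) 0
    obtain ⟨x, rfl⟩ := Ext.covariant_sequence_exact₁ c hS ξ (Subsingleton.elim _ _) rfl
    obtain ⟨s, rfl⟩ := (Ext.mk₀_bijective _ _).2 x
    obtain ⟨N, hN, φ, hφ⟩ := h _ _ S.g s
    refine ⟨N, hN, ?_⟩
    rw [show N • (Ext.mk₀ s).comp hS.extClass (zero_add 1) =
      (Ext.mk₀ (N • s)).comp hS.extClass (zero_add 1) from ?_, ← hφ, ← Ext.mk₀_comp_mk₀,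
      Ext.comp_assoc _ _ _ (add_zero 0) (zero_add 1) (by omega), hS.comp_extClass, Ext.comp_zero]
    clear hN hφ
    induction N with
    | zero => simp
    | succ k ih => rw [succ_nsmul, ih, succ_nsmul, Ext.mk₀_add, Ext.add_comp]
  | succ n ih =>
    intro F ξ
    let S : ShortComplex A := ShortComplex.mk (Injective.ι F) (cokernel.π (Injective.ι F))
      (cokernel.condition _)
    have hS : S.ShortExact :=
      { exact := ShortComplex.exact_of_g_is_cokernel _ (cokernelIsCokernel (Injective.ι F))
        mono_f := inferInstanceAs (Mono (Injective.ι F))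
        epi_g := inferInstanceAs (Epi (cokernel.π (Injective.ι F))) }
    have : Subsingleton (Ext.{w'} c S.X₂ (n + 1 + 1)) :=
      Ext.subsingleton_of_injective c (Injective.under F) (n + 1)
    obtain ⟨x, rfl⟩ := Ext.covariant_sequence_exact₁ c hS ξ (Subsingleton.elim _ _) rfl
    obtain ⟨N, hN, hx⟩ := ih _ x
    refine ⟨N, hN, ?_⟩
    have : N • x.comp hS.extClass (rfl : n + 1 + 1 = n + 1 + 1) =
        (N • x).comp hS.extClass rfl := by
      clear hN hx
      induction N with
      | zero => simp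
      | succ k ih => rw [succ_nsmul, ih, succ_nsmul, Ext.add_comp]
    rw [this, hx, Ext.zero_comp]

end Groth.Agent.EtTr32
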