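import Groth.Agent.Split94.Basic
import Mathlib.RingTheory.Etale.Basic
import Mathlib.RingTheory.Etale.StandardEtale
import Mathlib.FieldTheory.Separable
import Mathlib.FieldTheory.IsAlgClosed.Basic

/-! The universal splitting algebra of a separable monic polynomial is etale, with the symmetric group acting transitively on geometric points. -/

set_option autoImplicit false
universe u

open Polynomial

namespace Groth.Agent.EtTr32

variable {R : Type u} [CommRing R] {r : ℕ} {a : Fin r → R}

/-- The roots in the splitting algebra. -/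
noncomputable abbrev rt (a : Fin r → R) (j : Fin r) : Split94.Split r a :=
  Ideal.Quotient.mk (Split94.splitIdeal r a) (MvPolynomial.X j)

theorem isUnit_sub_of_prod_separable {S : Type*} [CommRing S] {ι : Type*} [Fintype ι] (s : ι → S)
    (h : (∏ j, (X - C (s j))).Separable) {i j : ι} (hij : i ≠ j) : IsUnit (s i - s j) := by
  classical
  rw [← Finset.mul_prod_erase _ _ (Finset.mem_univ i),
    ← Finset.mul_prod_erase (Finset.univ.erase i) _ (Finset.mem_erase.2 ⟨hij.symm, Finset.mem_univ j⟩),
    ← mul_assoc] at h
  obtain ⟨p, q, hpq⟩ := (Separable.of_mul_left h).isCoprime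
  have := congrArg (Polynomial.eval (s i)) hpq
  simp only [eval_add, eval_mul, eval_sub, eval_X, eval_C, sub_self, mul_zero, zero_add, eval_one] at this
  exact IsUnit.of_mul_eq_one (b := q.eval (s i)) (by rw [mul_comm]; exact this)

theorem prod_eq_of_roots {B : Type*} [CommRing B] {r : ℕ} {P : B[X]} (hP : P.Monic)
    (hdeg : P.natDegree ≤ r) (s : Fin r → B) (hroot : ∀ j, P.IsRoot (s j))
    (hu : ∀ i j, i ≠ j → IsUnit (s i - s j)) : ∏ j, (X - C (s j)) = P := by
  rcases subsingleton_or_nontrivial B with hB | hB
  · exact Subsingleton.elim _ _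
  refine (eq_of_monic_of_dvd_of_natDegree_le (monic_prod_of_monic _ _ fun j _ => monic_X_sub_C _) hP
    (Finset.prod_dvd_of_coprime (fun i _ j _ hij => ?_) fun j _ => dvd_iff_isRoot.2 (hroot j)) ?_).symm
  · obtain ⟨w, hw⟩ := (hu i j hij).exists_left_inv
    refine ⟨-C w, C w, ?_⟩
    linear_combination (C_mul (a := w) (b := s i - s j)).symm.trans (by rw [hw, C_1]) +
      C w * (C_sub (a := s i) (b := s j)).symm
  · refine hdeg.trans (le_of_eq ?_)
    rw [natDegree_prod_of_monic _ _ fun j _ => monic_X_sub_C _]
    simp

theorem formallyEtale_split (hP : (Split94.splitPoly r a).Separable) :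
    Algebra.FormallyEtale R (Split94.Split r a) := by
  obtain ⟨p, q, hpq⟩ := hP
  let E : StandardEtalePair R :=
    { f := Split94.splitPoly r a
      monic_f := Split94.splitPoly_monic r a
      g := 1
      cond := ⟨q, p, 1, by rw [pow_one]; linear_combination hpq⟩ }
  have hmap : ∀ {S : Type u} [CommRing S] [Algebra R S] (x : S),
      E.HasMap x ↔ ((Split94.splitPoly r a).map (algebraMap R S)).IsRoot x := fun x => by
    simp [StandardEtalePair.HasMap, E, IsRoot, eval_map_algebraMap]
  rw [Algebra.FormallyEtale.iff_comp_bijective]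
  intro B _ _ I hI
  have hnil : ∀ x : B, IsUnit (Ideal.Quotient.mk I x) → IsUnit x := fun x hx => by
    obtain ⟨y, hy⟩ := hx.exists_right_inv
    obtain ⟨y, rfl⟩ := Ideal.Quotient.mk_surjective y
    have h1 : 1 - x * y ∈ I := Ideal.Quotient.eq.1 (by rw [map_mul, hy, map_one])
    have h2 : (1 - x * y) ^ 2 = 0 := by
      have := Ideal.pow_mem_pow h1 2
      rwa [hI, Ideal.mem_bot] at this
    exact IsUnit.of_mul_eq_one (b := y * (2 - x * y)) (by linear_combination (-1 : B) * h2)
  have hroots : ∀ {S : Type u} [CommRing S] [Algebra R S] (φ : Split94.Split r a →ₐ[R] S),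
      ∏ j, (X - C (φ (rt a j))) = (Split94.splitPoly r a).map (algebraMap R S) := fun φ => by
    rw [← AlgHom.comp_algebraMap φ, ← Polynomial.map_map, ← Split94.prod_root, Polynomial.map_prod]
    simp
  refine ⟨fun φ ψ h => ?_, fun φ => ?_⟩
  · refine Split94.hom_ext fun j => ?_
    have hj : Ideal.Quotient.mk I (φ (rt a j)) = Ideal.Quotient.mk I (ψ (rt a j)) :=
      DFunLike.congr_fun h (rt a j)
    have hx : ∀ χ : Split94.Split r a →ₐ[R] B, E.HasMap (χ (rt a j)) := fun χ => (hmap _).2 (by
      rw [← hroots χ, IsRoot, eval_prod]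
      exact Finset.prod_eq_zero (Finset.mem_univ j) (by simp))
    have hb : E.HasMap (Ideal.Quotient.mk I (φ (rt a j))) := (hx φ).map (Ideal.Quotient.mkₐ R I)
    obtain ⟨ε, -, hε⟩ := E.existsUnique_hasMap_of_hasMap_quotient_of_sq_eq_bot I hI _ hb
    have h0 := hε 0 ⟨I.zero_mem, by simpa using hx φ⟩
    have h1 := hε (ψ (rt a j) - φ (rt a j)) ⟨Ideal.Quotient.eq.1 hj.symm, by simpa using hx ψ⟩
    exact (sub_eq_zero.1 (h1.trans h0.symm)).symm
  · have hq : ∀ j, ∃ s : B, Ideal.Quotient.mk I s = φ (rt a j) ∧ E.HasMap s := fun j => by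
      obtain ⟨x, hx⟩ := Ideal.Quotient.mk_surjective (φ (rt a j))
      have hb : E.HasMap (Ideal.Quotient.mk I x) := (hmap _).2 (by
        rw [hx, ← hroots φ, IsRoot, eval_prod]
        exact Finset.prod_eq_zero (Finset.mem_univ j) (by simp))
      obtain ⟨ε, ⟨hεI, hε⟩, -⟩ := E.existsUnique_hasMap_of_hasMap_quotient_of_sq_eq_bot I hI _ hb
      exact ⟨x + ε, by rw [map_add, Ideal.Quotient.eq_zero_iff_mem.2 hεI, add_zero, hx], hε⟩
    choose s hs hs' using hq
    have hsep : (∏ j, (X - C (φ (rt a j)))).Separable := by
      rw [hroots φ]; exact Separable.map ⟨p, q, hpq⟩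
    have hs'' : ∏ j, (X - C (s j)) = (Split94.splitPoly r a).map (algebraMap R B) :=
      prod_eq_of_roots ((Split94.splitPoly_monic r a).map _) ((natDegree_map_le).trans (by
        rcases subsingleton_or_nontrivial R with hR | hR
        · simp [Subsingleton.elim (Split94.splitPoly r a) 0]
        · rw [Split94.splitPoly_natDegree])) s (fun j => (hmap _).1 (hs' j))
        fun i j hij => hnil _ (by rw [map_sub, hs, hs]; exact isUnit_sub_of_prod_separable _ hsep hij)
    exact ⟨Split94.lift r a s hs'', Split94.hom_ext fun j => by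
      show Ideal.Quotient.mk I (Split94.lift r a s hs'' _) = _
      rw [Split94.lift_X, hs]⟩

theorem finitePresentation_split : Algebra.FinitePresentation R (Split94.Split r a) :=
  Algebra.FinitePresentation.quotient (Submodule.fg_span (Set.finite_range _))

theorem etale_split (hP : (Split94.splitPoly r a).Separable) : Algebra.Etale R (Split94.Split r a) :=
  ⟨formallyEtale_split hP, finitePresentation_split⟩

/-- The action of permutations. -/
noncomputable def permHom (a : Fin r → R) (σ : Equiv.Perm (Fin r)) : Split94.Split r a →ₐ[R] Split94.Split r a :=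
  Split94.lift r a (fun j => rt a (σ j))
    ((Equiv.prod_comp σ fun j => X - C (rt a j)).trans (Split94.prod_root r a))

theorem permHom_rt (σ : Equiv.Perm (Fin r)) (j : Fin r) : permHom a σ (rt a j) = rt a (σ j) :=
  Split94.lift_X _ _ _ _ j

theorem permHom_comp (σ τ : Equiv.Perm (Fin r)) :
    (permHom a σ).comp (permHom a τ) = permHom a (σ * τ) :=
  Split94.hom_ext fun j => by
    show permHom a σ (permHom a τ (rt a j)) = permHom a (σ * τ) (rt a j)
    rw [permHom_rt, permHom_rt, permHom_rt]; rfl

/-- Two points with values in a domain differ by a permutation. -/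
theorem exists_perm {Ω : Type*} [Field Ω] (hP : (Split94.splitPoly r a).Separable)
    (x y : Split94.Split r a →+* Ω)
    (hxy : x.comp (algebraMap R _) = y.comp (algebraMap R _)) :
    ∃ σ : Equiv.Perm (Fin r), y = x.comp (permHom a σ).toRingHom := by
  have hr : ∀ z : Split94.Split r a →+* Ω, ∏ j, (X - C (z (rt a j))) =
      (Split94.splitPoly r a).map (z.comp (algebraMap R _)) := fun z => by
    rw [← Polynomial.map_map, ← Split94.prod_root, Polynomial.map_prod]
    simp
  have hinj : Function.Injective fun j => y (rt a j) := fun i j h => by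
    by_contra hij
    have := isUnit_sub_of_prod_separable (fun j => y (rt a j))
      (by rw [hr y]; exact hP.map) hij
    simp only at h
    rw [h, sub_self] at this
    exact not_isUnit_zero this
  have hex : ∀ j, ∃ i, y (rt a j) = x (rt a i) := fun j => by
    have h := congrArg (Polynomial.eval (y (rt a j))) ((hr x).trans ((congrArg (Split94.splitPoly r a).map hxy).trans (hr y).symm))
    rw [eval_prod, eval_prod, Finset.prod_eq_zero (f := fun k => eval (y (rt a j)) (X - C (y (rt a k))))
      (Finset.mem_univ j) (by simp), Finset.prod_eq_zero_iff] at h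
    obtain ⟨i, -, hi⟩ := h
    exact ⟨i, by simpa [sub_eq_zero] using hi⟩
  choose g hg using hex
  have hginj : Function.Injective g := fun i j h => hinj (by simp only [hg, h])
  let σ : Equiv.Perm (Fin r) := Equiv.ofBijective g (Finite.injective_iff_bijective.1 hginj)
  refine ⟨σ, Ideal.Quotient.ringHom_ext (MvPolynomial.ringHom_ext (fun c => ?_) fun j => ?_)⟩
  · show y (algebraMap R _ c) = x (permHom a σ (algebraMap R _ c))
    rw [AlgHom.commutes]
    exact (DFunLike.congr_fun hxy c).symm
  · show y (rt a j) = x (permHom a σ (rt a j))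
    rw [permHom_rt]
    exact hg j

/-- Points with algebraically closed values exist. -/
theorem exists_point {Ω : Type u} [Field Ω] [IsAlgClosed Ω] (φ : R →+* Ω) :
    ∃ z : Split94.Split r a →+* Ω, z.comp (algebraMap R _) = φ := by
  letI : Algebra R Ω := φ.toAlgebra
  have : Nontrivial R := φ.domain_nontrivial
  set Q := (Split94.splitPoly r a).map (algebraMap R Ω) with hQ
  have hm : Q.Monic := (Split94.splitPoly_monic r a).map _
  have hs : Q.Splits := IsAlgClosed.splits Q
  have hd : Q.roots.card = r := by
    rw [← hs.natDegree_eq_card_roots, hQ, (Split94.splitPoly_monic r a).natDegree_map,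
      Split94.splitPoly_natDegree]
  let l := Q.roots.toList
  have hl : l.length = r := by simp [l, hd]
  let s : Fin r → Ω := fun j => l[(j : ℕ)]'(by omega)
  have hprod : ∏ j, (X - C (s j)) = Q := by
    conv_rhs => rw [hs.eq_prod_roots_of_monic hm, ← Multiset.coe_toList Q.roots, Multiset.map_coe,
      Multiset.prod_coe]
    rw [← List.prod_ofFn]
    congr 1
    refine List.ext_getElem (by simpa [l] using hl.symm) fun n h1 h2 => ?_
    simp [s, l]
  exact ⟨(Split94.lift r a s hprod).toRingHom, (Split94.lift r a s hprod).comp_algebraMap⟩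

end Groth.Agent.EtTr32
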