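import Groth.Prelude.Def_EtBase
import Mathlib.RingTheory.Unramified.LocalStructure
import Mathlib.AlgebraicGeometry.Morphisms.Etale
import Mathlib.AlgebraicGeometry.Morphisms.OpenImmersion
import Mathlib.AlgebraicGeometry.Morphisms.UniversallyOpen
import Mathlib.AlgebraicGeometry.Morphisms.Smooth

/-! Covering sieves of an affine scheme on the small etale site contain finitely many standard etale algebras covering it. -/

set_option autoImplicit false
universe u

open CategoryTheory CategoryTheory.Limits AlgebraicGeometry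

namespace Groth.Agent.EtTr32

variable {A : Type u} [CommRing A]

/-- `Spec` of an etale algebra as an object of the small etale site. -/
theorem etale_specMap (B : Type u) [CommRing B] [Algebra A B] [Algebra.Etale A B] :
    Etale (Spec.map (CommRingCat.ofHom (algebraMap A B))) :=
  HasRingHomProperty.Spec_iff.mpr (RingHom.etale_algebraMap.2 inferInstance)

noncomputable abbrev objOf (B : Type u) [CommRing B] [Algebra A B] [Algebra.Etale A B] :
    (Spec (CommRingCat.of A)).Etale :=
  haveI := etale_specMap (A := A) B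
  Scheme.Etale.mk (Spec.map (CommRingCat.ofHom (algebraMap A B)))

/-- The base is terminal in its small etale site. -/
noncomputable def topTerminal (X : Scheme.{u}) : IsTerminal (EtCoh.top X) :=
  MorphismProperty.Over.mkIdTerminal _ _

theorem exists_standardPairs (R : Sieve (EtCoh.top (Spec (CommRingCat.of A))))
    (hR : R ∈ (Spec (CommRingCat.of A)).smallEtaleTopology _) :
    ∃ (n : ℕ) (E : Fin n → StandardEtalePair A),
      (∀ i, R ((topTerminal _).from (objOf (E i).Ring))) ∧
      ∀ p : PrimeSpectrum A, ∃ i, ∃ q : PrimeSpectrum (E i).Ring,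
        PrimeSpectrum.comap (algebraMap A (E i).Ring) q = p := by
  classical
  have eX : (Spec (CommRingCat.of A)).smallEtaleTopology = ((Spec (CommRingCat.of A)).smallPretopology
      (P := EtCoh.etaleMP) (Q := EtCoh.etaleMP)).toGrothendieck :=
    Scheme.smallGrothendieckTopology_eq_toGrothendieck_smallPretopology _ le_rfl
  rw [eX] at hR
  replace hR := (Scheme.mem_toGrothendieck_smallPretopology _ _).1 hR
  have key : ∀ x : Spec (CommRingCat.of A), ∃ E : StandardEtalePair A,
      R ((topTerminal _).from (objOf E.Ring)) ∧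
      ∃ q : PrimeSpectrum E.Ring, PrimeSpectrum.comap (algebraMap A E.Ring) q = x := by
    intro x
    obtain ⟨Y, f, y, hf, -, hy⟩ := hR x
    haveI : Etale Y.hom := Y.prop
    obtain ⟨U, hU, hyU, -⟩ := exists_isAffineOpen_mem_and_subset (x := y) (U := ⊤) (by simp)
    let S : CommRingCat := Γ(Y.left, U)
    let φ : CommRingCat.of A ⟶ S := Spec.preimage (hU.fromSpec ≫ Y.hom)
    have hφ : Spec.map φ = hU.fromSpec ≫ Y.hom := Spec.map_preimage _
    have het : RingHom.Etale φ.hom := by
      refine HasRingHomProperty.Spec_iff.mp (?_ : Etale (Spec.map φ))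
      rw [hφ]; infer_instance
    algebraize [φ.hom]
    obtain ⟨Q, hQ⟩ : ∃ Q : PrimeSpectrum S, hU.fromSpec Q = y := by
      have : y ∈ Set.range hU.fromSpec := by rw [hU.range_fromSpec]; exact hyU
      exact this
    have : Algebra.IsEtaleAt A Q.asIdeal := inferInstance
    obtain ⟨g, hg, hstd⟩ := Algebra.IsEtaleAt.exists_isStandardEtale (R := A) Q.asIdeal
    let P := (Algebra.IsStandardEtale.nonempty_standardEtalePresentation (R := A)
      (S := Localization.Away g)).some
    let E : StandardEtalePair A := P.P
    let ψ : S →ₐ[A] E.Ring := P.equivRing.toAlgHom.comp (IsScalarTower.toAlgHom A S _)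
    have hx : x = PrimeSpectrum.comap (algebraMap A S) Q := by
      have h1 : (Spec.map φ) Q = Y.hom y := by rw [hφ, Scheme.Hom.comp_apply, hQ]
      have h2 : f.left ≫ (EtCoh.top (Spec (CommRingCat.of A))).hom = Y.hom := MorphismProperty.Over.w f
      rw [← h2, Scheme.Hom.comp_apply, hy] at h1
      exact h1.symm
    refine ⟨E, ?_, ?_⟩
    · have hψ : φ ≫ CommRingCat.ofHom ψ.toRingHom = CommRingCat.ofHom (algebraMap A E.Ring) := by
        ext a; exact ψ.commutes a
      let m : objOf E.Ring ⟶ Y :=
        MorphismProperty.Over.homMk (Spec.map (CommRingCat.ofHom ψ.toRingHom) ≫ hU.fromSpec) (by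
          show (Spec.map (CommRingCat.ofHom ψ.toRingHom) ≫ hU.fromSpec) ≫ Y.hom = _
          rw [Category.assoc, ← hφ, ← Spec.map_comp, hψ]
          rfl) trivial
      rw [(topTerminal _).hom_ext ((topTerminal _).from _) (m ≫ f)]
      exact R.downward_closed hf m
    · have hQ' : Q ∈ Set.range (PrimeSpectrum.comap (algebraMap S (Localization.Away g))) := by
        rw [PrimeSpectrum.localization_away_comap_range (Localization.Away g) g]
        exact hg
      obtain ⟨q, hq⟩ := hQ'
      refine ⟨PrimeSpectrum.comap P.equivRing.symm.toAlgHom.toRingHom q, ?_⟩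
      rw [hx, ← hq, ← PrimeSpectrum.comap_comp_apply, ← PrimeSpectrum.comap_comp_apply]
      refine congrArg (fun χ : A →+* Localization.Away g => PrimeSpectrum.comap χ q) (RingHom.ext fun a => ?_)
      exact (P.equivRing.symm.toAlgHom.commutes a).trans
        (IsScalarTower.algebraMap_apply A S (Localization.Away g) a)
  choose E hER q hq using key
  haveI := fun x => etale_specMap (A := A) (E x).Ring
  let O : Spec (CommRingCat.of A) → Set (Spec (CommRingCat.of A)) := fun x =>
    Set.range (Spec.map (CommRingCat.ofHom (algebraMap A (E x).Ring)))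
  have hO : ∀ x, IsOpen (O x) := fun x => (Scheme.Hom.isOpenMap _).isOpen_range
  obtain ⟨t, ht⟩ := isCompact_univ.elim_finite_subcover O hO
    (fun x _ => Set.mem_iUnion.2 ⟨x, q x, hq x⟩)
  refine ⟨t.card, fun i => E (t.equivFin.symm i).1, fun i => hER _, fun p => ?_⟩
  obtain ⟨x, hxt, hp⟩ := Set.mem_iUnion₂.1 (ht (Set.mem_univ p))
  obtain ⟨z, hz⟩ := hp
  refine ⟨t.equivFin ⟨x, hxt⟩, (congrArg (fun E' : StandardEtalePair A =>
    ∃ q : PrimeSpectrum E'.Ring, PrimeSpectrum.comap (algebraMap A E'.Ring) q = p) ?_).mpr ⟨z, hz⟩⟩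
  simp

end Groth.Agent.EtTr32
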