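import Groth.Agent.EtTr32.Site
import Groth.Agent.EtTr32.Std
import Groth.Agent.EtTr32.Cover
import Mathlib.AlgebraicGeometry.Morphisms.FormallyUnramified
import Mathlib.AlgebraicGeometry.ResidueField

/-! Transfer data on the spectrum of a product of henselian local rings. -/

set_option autoImplicit false
universe u

open CategoryTheory CategoryTheory.Limits AlgebraicGeometry

namespace Groth.Agent.EtTr32

theorem bot_mem_of_isEmpty {X : Scheme.{u}} (Z : X.Etale) (h : IsEmpty Z.left) :
    (⊥ : Sieve Z) ∈ X.smallEtaleTopology Z := by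
  have eX : X.smallEtaleTopology = (X.smallPretopology
      (P := EtCoh.etaleMP) (Q := EtCoh.etaleMP)).toGrothendieck :=
    Scheme.smallGrothendieckTopology_eq_toGrothendieck_smallPretopology _ le_rfl
  rw [eX]
  exact (Scheme.mem_toGrothendieck_smallPretopology _ _).2 fun z => h.elim z

/-- Two morphisms to an object of the small etale site agree on the open where a family of points equalizes them. -/
theorem exists_mem_loc {X : Scheme.{u}} {Γ : Type*} {W Z : X.Etale} (a b : Z ⟶ W) (e : Γ → (W ⟶ W))
    (h : ∀ (κ : Type u) [Field κ] (z : Spec (CommRingCat.of κ) ⟶ Z.left),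
      ∃ γ, z ≫ b.left = z ≫ a.left ≫ (e γ).left) :
    ∃ S ∈ X.smallEtaleTopology Z, ∀ (V : X.Etale) (i : V ⟶ Z), S i →
      ∃ γ, i ≫ b = i ≫ a ≫ e γ := by
  classical
  refine ⟨⟨fun V i => ∃ γ, i ≫ b = i ≫ a ≫ e γ, fun {V V'} i hi j => ?_⟩, ?_, fun V i hi => hi⟩
  · obtain ⟨γ, hγ⟩ := hi
    exact ⟨γ, by rw [Category.assoc, hγ, Category.assoc]⟩
  have eX : X.smallEtaleTopology = (X.smallPretopology
      (P := EtCoh.etaleMP) (Q := EtCoh.etaleMP)).toGrothendieck :=
    Scheme.smallGrothendieckTopology_eq_toGrothendieck_smallPretopology _ le_rfl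
  rw [eX]
  refine (Scheme.mem_toGrothendieck_smallPretopology _ _).2 fun x => ?_
  obtain ⟨γ, hγ⟩ := h _ (Z.left.fromSpecResidueField x)
  haveI : Etale W.hom := W.prop
  haveI : Etale Z.hom := Z.prop
  haveI : LocallyOfFiniteType W.hom := inferInstance
  haveI : FormallyUnramified W.hom := inferInstance
  let a' := a.left ≫ (e γ).left
  have w : a' ≫ W.hom = b.left ≫ W.hom := by
    show (a.left ≫ (e γ).left) ≫ W.hom = _
    rw [Category.assoc, show (e γ).left ≫ W.hom = W.hom from MorphismProperty.Over.w (e γ),
      show a.left ≫ W.hom = Z.hom from MorphismProperty.Over.w a,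
      show b.left ≫ W.hom = Z.hom from MorphismProperty.Over.w b]
  let E := pullback (pullback.lift a' b.left w) (pullback.diagonal W.hom)
  let ι : E ⟶ Z.left := pullback.fst _ _
  have : IsOpenImmersion ι := inferInstanceAs (IsOpenImmersion (pullback.fst _ _))
  haveI : Etale (ι ≫ Z.hom) := inferInstance
  let V : X.Etale := Scheme.Etale.mk (ι ≫ Z.hom)
  let i : V ⟶ Z := MorphismProperty.Over.homMk ι rfl trivial
  have hx : (pullback.lift a' b.left w) ≫ pullback.fst W.hom W.hom = a' := pullback.lift_fst _ _ _
  let z : Spec (Z.left.residueField x) ⟶ E :=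
    pullback.lift (Z.left.fromSpecResidueField x) (Z.left.fromSpecResidueField x ≫ b.left) (by
      apply pullback.hom_ext
      · simp only [Category.assoc, pullback.lift_fst, pullback.diagonal_fst, Category.comp_id]
        exact hγ.symm
      · simp only [Category.assoc, pullback.lift_snd, pullback.diagonal_snd, Category.comp_id])
  obtain ⟨p⟩ : Nonempty (Spec (Z.left.residueField x)) := inferInstance
  refine ⟨V, i, z p, ⟨γ, ?_⟩, inferInstanceAs (Etale ι), ?_⟩
  · apply MorphismProperty.Over.Hom.ext
    show ι ≫ b.left = ι ≫ a'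
    have h1 := congrArg (fun t => t ≫ pullback.fst W.hom W.hom)
      (pullback.condition (f := pullback.lift a' b.left w) (g := pullback.diagonal W.hom))
    have h2 := congrArg (fun t => t ≫ pullback.snd W.hom W.hom)
      (pullback.condition (f := pullback.lift a' b.left w) (g := pullback.diagonal W.hom))
    simp only [Category.assoc, pullback.lift_fst, pullback.lift_snd, pullback.diagonal_fst,
      pullback.diagonal_snd, Category.comp_id] at h1 h2
    exact h2.trans h1.symm
  · show ι (z p) = x
    rw [← Scheme.Hom.comp_apply, pullback.lift_fst]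
    exact Scheme.fromSpecResidueField_apply _ _

section

variable {V : Type u} (O : V → Type u) [∀ v, CommRing (O v)]

/-- The indicator idempotent of a class. -/
noncomputable def ind {ι : Type} [DecidableEq ι] (c : V → ι) (j : ι) : Π v, O v :=
  fun v => if c v = j then 1 else 0

/-- The indicator idempotent of the complement of a class. -/
noncomputable def coind {ι : Type} [DecidableEq ι] (c : V → ι) (j : ι) : Π v, O v :=
  fun v => if c v = j then 0 else 1

theorem isOpenImmersion_subProd {ι : Type} [DecidableEq ι] (c : V → ι) (j : ι) :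
    IsOpenImmersion (Spec.map (CommRingCat.ofHom (subProd O c j))) := by
  classical
  have hs : Function.Surjective (subProd O c j) := fun y =>
    ⟨fun v => if h : c v = j then y ⟨v, h⟩ else 0, funext fun v => by simp [v.2]⟩
  refine (isOpenImmersion_SpecMap_iff_of_surjective _ hs).2 ⟨(coind O c j : Π v, O v), ?_, ?_⟩
  · exact funext fun v => by
      show coind O c j v * coind O c j v = coind O c j v
      by_cases h : c v = j <;> simp [coind, h]
  · refine le_antisymm (fun x hx => Ideal.mem_span_singleton.2 ⟨x, funext fun v => ?_⟩) ?_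
    · show x v = coind O c j v * x v
      by_cases h : c v = j
      · simp [coind, h, show x v = 0 from congrFun (RingHom.mem_ker.1 hx) ⟨v, h⟩]
      · simp [coind, h]
    · rw [Ideal.span_le, Set.singleton_subset_iff]
      exact funext fun v => show coind O c j v.1 = 0 by simp [coind, v.2]

/-- A morphism between affine objects given by a ring map. -/
theorem specMap_etale_comp {ι : Type} [DecidableEq ι] (c : V → ι) (j : ι)
    (B : Type u) [CommRing B] [Algebra (Π v : {v // c v = j}, O v.1) B]
    [Algebra.Etale (Π v : {v // c v = j}, O v.1) B] :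
    Etale (Spec.map (CommRingCat.ofHom
      ((algebraMap (Π v : {v // c v = j}, O v.1) B).comp (subProd O c j)))) := by
  have := isOpenImmersion_subProd O c j
  have := etale_specMap (A := Π v : {v // c v = j}, O v.1) B
  rw [CommRingCat.ofHom_comp, Spec.map_comp]
  infer_instance

set_option maxRecDepth 8000 in
theorem nonempty_transferData [∀ v, HenselianLocalRing (O v)]
    (R : Sieve (EtCoh.top (Spec (CommRingCat.of (Π v, O v)))))
    (hR : R ∈ (Spec (CommRingCat.of (Π v, O v))).smallEtaleTopology _) :
    Nonempty (TransferData.{u + 1} (Spec (CommRingCat.of (Π v, O v))).smallEtaleTopology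
      (topTerminal _) R) := by
  classical
  obtain ⟨n, E, hER, hcov⟩ := exists_standardPairs R hR
  have hE : ∀ v, ∃ i, ∃ r : AlgebraicClosure (IsLocalRing.ResidueField (O v)),
      Polynomial.aeval r (((E i).f.map (Pi.evalRingHom O v)).map (IsLocalRing.residue (O v))) = 0 ∧
      Polynomial.aeval r (((E i).g.map (Pi.evalRingHom O v)).map (IsLocalRing.residue (O v))) ≠ 0 := by
    intro v
    let π : (Π v, O v) →+* IsLocalRing.ResidueField (O v) :=
      (IsLocalRing.residue (O v)).comp (Pi.evalRingHom O v)
    have hπs : Function.Surjective π := IsLocalRing.residue_surjective.comp (Function.surjective_eval v)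
    obtain ⟨i, q, hq⟩ := hcov (PrimeSpectrum.comap π (IsLocalRing.closedPoint _))
    refine ⟨i, ?_⟩
    let θ : (E i).Ring →+* q.asIdeal.ResidueField := algebraMap (E i).Ring q.asIdeal.ResidueField
    have hker : RingHom.ker π ≤ RingHom.ker (θ.comp (algebraMap (Π v, O v) (E i).Ring)) := fun x hx => by
      have h1 : x ∈ (PrimeSpectrum.comap (algebraMap (Π v, O v) (E i).Ring) q).asIdeal := by
        rw [hq]
        show π x ∈ IsLocalRing.maximalIdeal _
        rw [RingHom.mem_ker.1 hx]
        exact zero_mem _
      rw [RingHom.mem_ker, RingHom.comp_apply]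
      exact Ideal.algebraMap_residueField_eq_zero.2 h1
    let ψ := π.liftOfSurjective hπs ⟨_, hker⟩
    letI : Algebra (IsLocalRing.ResidueField (O v)) q.asIdeal.ResidueField := ψ.toAlgebra
    have hψ : ψ.comp π = θ.comp (algebraMap (Π v, O v) (E i).Ring) :=
      π.liftOfRightInverse_comp _ _ ⟨_, hker⟩
    set x := θ (E i).X
    have hal : ∀ p : Polynomial (Π v, O v), Polynomial.aeval x
        ((p.map (Pi.evalRingHom O v)).map (IsLocalRing.residue (O v))) = θ (Polynomial.aeval (E i).X p) := by
      intro p
      rw [Polynomial.map_map, Polynomial.aeval_def, Polynomial.eval₂_map, Polynomial.aeval_def,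
        Polynomial.hom_eval₂]
      exact congrArg (fun χ => Polynomial.eval₂ χ x p) hψ
    have hf0 : Polynomial.aeval x (((E i).f.map (Pi.evalRingHom O v)).map (IsLocalRing.residue (O v))) = 0 := by
      rw [hal, (StandardEtalePair.hasMap_X (P := E i)).1, map_zero]
    have hint : IsIntegral (IsLocalRing.ResidueField (O v)) x :=
      ⟨_, ((E i).monic_f.map _).map _, by rw [← Polynomial.aeval_def]; exact hf0⟩
    obtain ⟨r, hr⟩ := IsAlgClosed.exists_aeval_eq_zero (AlgebraicClosure (IsLocalRing.ResidueField (O v)))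
      (minpoly (IsLocalRing.ResidueField (O v)) x) (minpoly.degree_pos hint).ne'
    have hm : minpoly (IsLocalRing.ResidueField (O v)) r = minpoly (IsLocalRing.ResidueField (O v)) x :=
      (minpoly.eq_of_irreducible_of_monic (minpoly.irreducible hint) hr (minpoly.monic hint)).symm
    refine ⟨r, ?_, fun h => ?_⟩
    · obtain ⟨w, hw⟩ := minpoly.dvd _ x hf0
      rw [hw, map_mul, hr, zero_mul]
    · obtain ⟨w, hw⟩ := minpoly.dvd _ r h
      refine ((StandardEtalePair.hasMap_X (P := E i)).2.map θ).ne_zero ?_
      rw [← hal, hw, hm, map_mul, minpoly.aeval, zero_mul]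
  obtain ⟨ι, hι, c, hc⟩ := exists_cover O E hE
  choose e a hsep i φ hφ using hc
  haveI := fun j => etale_split (hsep j)
  haveI := fun j => specMap_etale_comp O c j (Split94.Split (e j) (a j))
  let f : ∀ j, Spec (CommRingCat.of (Split94.Split (e j) (a j))) ⟶ Spec (CommRingCat.of (Π v, O v)) :=
    fun j => Spec.map (CommRingCat.ofHom ((algebraMap _ (Split94.Split (e j) (a j))).comp (subProd O c j)))
  let W : ι → (Spec (CommRingCat.of (Π v, O v))).Etale := fun j => Scheme.Etale.mk (f j)
  have hperm : ∀ (j : ι) (σ : Equiv.Perm (Fin (e j))),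
      Spec.map (CommRingCat.ofHom (permHom (a j) σ).toRingHom) ≫ f j = f j := fun j σ => by
    rw [← Spec.map_comp, ← CommRingCat.ofHom_comp, ← RingHom.comp_assoc]
    congr 3
    exact RingHom.ext fun t => (permHom (a j) σ).commutes t
  let ee : ∀ j : ι, Equiv.Perm (Fin (e j)) → (W j ⟶ W j) := fun j σ =>
    MorphismProperty.Over.homMk (Spec.map (CommRingCat.ofHom (permHom (a j) σ).toRingHom)) (hperm j σ) trivial
  refine ⟨{
    ι := ULift.{u + 1} ι
    finι := inferInstance
    W := fun j => W j.down
    Γ := fun j => ULift.{u + 1} (Equiv.Perm (Fin (e j.down)))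
    finΓ := fun _ => inferInstance
    nonemptyΓ := fun _ => inferInstance
    e := fun j σ => ee j.down σ.down
    perm := ?_
    mem := ?_
    cover := ?_
    disjoint := ?_
    loc := ?_ }⟩
  · rintro ⟨j⟩ ⟨σ⟩
    refine ⟨⟨fun τ => ⟨σ * τ.down⟩, fun τ => ⟨σ⁻¹ * τ.down⟩, fun τ => by simp, fun τ => by simp⟩,
      fun τ => ?_⟩
    apply MorphismProperty.Over.Hom.ext
    show Spec.map _ ≫ Spec.map _ = Spec.map _
    rw [← Spec.map_comp, ← CommRingCat.ofHom_comp]
    exact congrArg (fun χ : Split94.Split (e j) (a j) →ₐ[Π v : {v // c v = j}, O v.1] Split94.Split (e j) (a j) =>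
      Spec.map (CommRingCat.ofHom χ.toRingHom)) (permHom_comp (a := a j) σ τ.down)
  · rintro ⟨j⟩
    have w : Spec.map (CommRingCat.ofHom (φ j)) ≫
        Spec.map (CommRingCat.ofHom (algebraMap (Π v, O v) (E (i j)).Ring)) = f j := by
      rw [← Spec.map_comp, ← CommRingCat.ofHom_comp, hφ j]
    let m : W j ⟶ objOf (E (i j)).Ring :=
      MorphismProperty.Over.homMk (Spec.map (CommRingCat.ofHom (φ j))) w trivial
    rw [(topTerminal _).hom_ext ((topTerminal _).from (W j)) (m ≫ (topTerminal _).from _)]
    exact R.downward_closed (hER (i j)) m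
  · refine (Scheme.ofArrows_mem_smallEtaleTopology_iff _).2 (Set.eq_univ_iff_forall.2 fun p => ?_)
    let p' : PrimeSpectrum (Π v, O v) := p
    obtain ⟨j, hj⟩ : ∃ j, ind O c j ∉ p'.asIdeal := by
      by_contra! h
      apply p'.isPrime.ne_top
      rw [Ideal.eq_top_iff_one]
      haveI := Fintype.ofFinite ι
      have : (1 : Π v, O v) = ∑ j, ind O c j := funext fun v => by simp [ind, Finset.sum_apply]
      rw [this]
      exact Ideal.sum_mem _ fun j _ => h j
    let Ω := AlgebraicClosure p'.asIdeal.ResidueField
    let χ : (Π v, O v) →+* Ω := (algebraMap p'.asIdeal.ResidueField Ω).comp (algebraMap _ _)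
    have hs : Function.Surjective (subProd O c j) := fun y =>
      ⟨fun v => if h : c v = j then y ⟨v, h⟩ else 0, funext fun v => by simp [v.2]⟩
    have hker : RingHom.ker (subProd O c j) ≤ RingHom.ker χ := fun t ht => by
      have h0 : t * ind O c j = 0 := funext fun v => by
        by_cases h : c v = j
        · simp [show t v = 0 from congrFun (RingHom.mem_ker.1 ht) ⟨v, h⟩]
        · simp [ind, h]
      have : t ∈ p'.asIdeal := (p'.isPrime.mem_or_mem (h0 ▸ zero_mem _)).resolve_right hj
      rw [RingHom.mem_ker, RingHom.comp_apply, Ideal.algebraMap_residueField_eq_zero.2 this, map_zero]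
    obtain ⟨z, hz⟩ := exists_point (a := a j) ((subProd O c j).liftOfSurjective hs ⟨χ, hker⟩)
    refine Set.mem_iUnion.2 ⟨⟨j⟩, PrimeSpectrum.comap z (IsLocalRing.closedPoint Ω), ?_⟩
    show (f j) (PrimeSpectrum.comap z (IsLocalRing.closedPoint Ω)) = p
    show PrimeSpectrum.comap _ (PrimeSpectrum.comap z (IsLocalRing.closedPoint Ω)) = p'
    rw [← PrimeSpectrum.comap_comp_apply, CommRingCat.hom_ofHom, ← RingHom.comp_assoc, hz,
      show ((subProd O c j).liftOfSurjective hs ⟨χ, hker⟩).comp (subProd O c j) = χ from
        (subProd O c j).liftOfRightInverse_comp _ _ ⟨χ, hker⟩]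
    ext t
    show χ t ∈ IsLocalRing.maximalIdeal Ω ↔ _
    rw [IsLocalRing.mem_maximalIdeal, mem_nonunits_iff, isUnit_iff_ne_zero, not_not, RingHom.comp_apply,
      map_eq_zero, Ideal.algebraMap_residueField_eq_zero]
  · rintro ⟨j⟩ ⟨k⟩ hjk Z α β
    have hjk' : j ≠ k := fun h => hjk (congrArg ULift.up h)
    refine bot_mem_of_isEmpty Z ⟨fun x => ?_⟩
    obtain ⟨α', hα⟩ := Spec.map_surjective (Z.left.fromSpecResidueField x ≫ α.left)
    obtain ⟨β', hβ⟩ := Spec.map_surjective (Z.left.fromSpecResidueField x ≫ β.left)
    have h1 : α'.hom.comp ((algebraMap _ (Split94.Split (e j) (a j))).comp (subProd O c j)) =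
        β'.hom.comp ((algebraMap _ (Split94.Split (e k) (a k))).comp (subProd O c k)) := by
      have h : Spec.map α' ≫ f j = Spec.map β' ≫ f k := by
        rw [hα, hβ]
        exact (Category.assoc _ _ _).trans ((congrArg (Z.left.fromSpecResidueField x ≫ ·)
          ((MorphismProperty.Over.w α).trans (MorphismProperty.Over.w β).symm)).trans (Category.assoc _ _ _).symm)
      rw [← Spec.map_comp, ← Spec.map_comp] at h
      exact congrArg CommRingCat.Hom.hom (Spec.map_injective h)
    have h2 := DFunLike.congr_fun h1 (ind O c j)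
    rw [RingHom.comp_apply, RingHom.comp_apply, RingHom.comp_apply, RingHom.comp_apply,
      show subProd O c j (ind O c j) = 1 from funext fun v => by simp [ind, v.2],
      show subProd O c k (ind O c j) = 0 from funext fun v => by simp [ind, v.2, Ne.symm hjk'],
      map_one, map_one, map_zero, map_zero] at h2
    exact one_ne_zero h2
  · rintro ⟨j⟩ Z α β
    refine exists_mem_loc α β (fun σ : ULift.{u + 1} (Equiv.Perm (Fin (e j))) => ee j σ.down) fun κ _ z => ?_
    obtain ⟨α', hα⟩ := Spec.map_surjective (z ≫ α.left)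
    obtain ⟨β', hβ⟩ := Spec.map_surjective (z ≫ β.left)
    have h : Spec.map α' ≫ f j = Spec.map β' ≫ f j := by
      rw [hα, hβ]
      exact (Category.assoc _ _ _).trans ((congrArg (z ≫ ·)
        ((MorphismProperty.Over.w α).trans (MorphismProperty.Over.w β).symm)).trans (Category.assoc _ _ _).symm)
    rw [← Spec.map_comp, ← Spec.map_comp] at h
    have h1 : α'.hom.comp (algebraMap (Π v : {v // c v = j}, O v.1) (Split94.Split (e j) (a j))) =
        β'.hom.comp (algebraMap (Π v : {v // c v = j}, O v.1) (Split94.Split (e j) (a j))) := by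
      refine (RingHom.cancel_right (f := subProd O c j) fun y =>
        ⟨fun v => if h : c v = j then y ⟨v, h⟩ else 0, funext fun v => by simp [v.2]⟩).1 ?_
      exact congrArg CommRingCat.Hom.hom (Spec.map_injective h)
    obtain ⟨σ, hσ⟩ := exists_perm (hsep j) α'.hom β'.hom h1
    refine ⟨⟨σ⟩, ?_⟩
    exact hβ.symm.trans ((congrArg Spec.map (CommRingCat.hom_ext
      (f := β') (g := CommRingCat.ofHom (permHom (a j) σ).toRingHom ≫ α') hσ)).trans
      ((Spec.map_comp _ _).trans ((congrArg (· ≫ Spec.map (CommRingCat.ofHom (permHom (a j) σ).toRingHom)) hα).trans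
        (Category.assoc _ _ _))))

end

end Groth.Agent.EtTr32
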